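import Cfsg.Agent.G75.Main
import Cfsg.Agent.H3.QD
import Cfsg.Agent.H2.Misc

/-! Strongly closed `2`-subgroups of rank one.  OWNER: helper4. -/

set_option autoImplicit false
set_option linter.unusedSectionVars false
set_option linter.unusedVariables false
set_option linter.style.haveILetI false
set_option linter.unusedSimpArgs false

namespace Cfsg.Agent.AC.Sc

open Cfsg Cfsg.Agent.FT Subgroup Cfsg.Agent.GW
open Cfsg.Agent.G75 (SC cl img Pair GOw ACS sc_of mem_of_sc cl_top_eq)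
open scoped commutatorElement

universe u

variable {G : Type u} [Group G] [Finite G] {𝒮 : Set G} {A B C D H K L M N P Q S T U V W X : Subgroup G}
  {a b c g s t w x y z : G} {m : ℕ}

theorem le_sup_odd (hP : Syl 2 P M) (h : ∀ g ∈ M, PiElt {2}ᶜ g → g ∈ D) : M ≤ D ⊔ P :=
  le_of_forall_syl fun q hq _ => by
    by_cases e : q = 2
    · subst e; exact ⟨P, hP, le_sup_right⟩
    obtain ⟨Q, hQ⟩ := exists_syl q M
    exact ⟨Q, hQ, fun s hs => mem_sup_left (h s (hQ.le hs) ((hQ.pi.piElt hs).pi (π := {2}ᶜ) e))⟩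

theorem sc_nrm (hsc : IsStronglyClosed S T) (hP : P ≤ T) : N(P) ≤ N(P ⊓ S) := fun g hg =>
  mem_nrm.2 fun x hx => ⟨conj_mem hg hx.1, hsc.2 x hx.2 g (hP (conj_mem hg hx.1))⟩

theorem sc_le (hsc : IsStronglyClosed S T) : T ≤ N(S) := fun g hg =>
  mem_nrm.2 fun x hx => hsc.2 x hx g (conj_mem (le_nrm T hg) (hsc.1 hx))

/-- the elements of `N(B)` that act trivially on `B` modulo `S` -/
def Wm (S B : Subgroup G) : Subgroup G where
  carrier := {g | g ∈ N(B) ∧ ∀ x ∈ B, g * x * g⁻¹ * x⁻¹ ∈ S}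
  one_mem' := ⟨one_mem _, fun x _ => by simp⟩
  mul_mem' := fun {g h} hg hh => ⟨mul_mem hg.1 hh.1, fun x hx => by
    have := mul_mem (hg.2 _ (conj_mem hh.1 hx)) (hh.2 x hx)
    convert this using 1; group⟩
  inv_mem' := fun {g} hg => ⟨inv_mem hg.1, fun x hx => by
    have := inv_mem (hg.2 _ (conj_mem (inv_mem hg.1) hx))
    convert this using 1; group⟩

theorem Wm_nml (hsc : IsStronglyClosed S T) (hB : B ≤ T) : Wm S B ⊴ N(B) :=
  ⟨fun g hg => hg.1, fun k hk => mem_nrm.2 fun g hg => ⟨conj_mem (le_nrm _ hk) hg.1, fun x hx => by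
    have h1 := conj_mem (inv_mem hk) hx
    have := conj_mem (sc_nrm hsc hB hk) (mem_inf.2 ⟨mul_mem (conj_mem hg.1 h1) (inv_mem h1), hg.2 _ h1⟩)
    convert (mem_inf.1 this).2 using 1; group⟩⟩

/-- Alperin's fusion theorem in the presence of a strongly closed subgroup -/
theorem alp_sc (hT : Syl 2 T ⊤) (hsc : IsStronglyClosed S T) (R : G → G → Prop) (hs : ∀ x y, R x y → R y x)
    (ht : ∀ x y z, R x y → R y z → R x z) (h1 : ∀ n ∈ N(S), ∀ x ∈ T, n * x * n⁻¹ ∈ T → R x (n * x * n⁻¹))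
    (h2 : ∀ B ≤ T, Syl 2 (T ⊓ N(B)) N(B) → ∀ w ∈ Wm S B, ∀ x ∈ B, R x (w * x * w⁻¹))
    (hx : x ∈ T) (hg : g * x * g⁻¹ ∈ T) : R x (g * x * g⁻¹) := by
  haveI : Fact (Nat.Prime 2) := ⟨Nat.prime_two⟩
  refine H21.alperin_centric ((syl_iff_sylIn Nat.prime_two).1 hT) (fun A g => ∀ x ∈ A, R x (g * x * g⁻¹)) ?_ ?_
    (fun A B g hAB _ _ a1 x hx => a1 x (hAB hx)) (fun A g h e a1 x hx => e x hx ▸ a1 x hx)
    (fun B hB hsyl _ ih k hk x hx => ?_) ⟪x⟫ g (zpowers_le.2 hx)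
    (show FT.cj g _ ≤ T by rw [cj_zpowers]; exact zpowers_le.2 hg) x (mem_zpowers x)
  · intro A g h _ _ _ a1 a2 x hx
    have := ht _ _ _ (a1 x hx) (a2 _ (conj_mem_cj.2 hx))
    rwa [show h * (g * x * g⁻¹) * h⁻¹ = h * g * x * (h * g)⁻¹ by group] at this
  · intro A g _ _ a1 x hx
    have := a1 _ (FT.mem_cj.1 hx)
    rw [show g * (g⁻¹ * x * g) * g⁻¹ = x by group] at this
    rw [inv_inv]; exact hs _ _ this
  replace hsyl : Syl 2 (T ⊓ N(B)) N(B) := (syl_iff_sylIn Nat.prime_two).2 hsyl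
  by_cases e : S ≤ B
  · exact h1 k (inf_eq_right.2 e ▸ sc_nrm hsc hB hk) x (hB hx) (hB (conj_mem hk hx))
  obtain ⟨w, hw, n, hn, rfl⟩ := ((hsyl.inf_nml (Wm_nml hsc hB)).frattini (Wm_nml hsc hB)).mul k hk
  have k1 : T ⊓ N(B) ⊓ Wm S B ≤ T := inf_le_left.trans inf_le_left
  have k2 : B ⊔ T ⊓ N(B) ⊓ Wm S B ⊓ S ≤ T := sup_le hB (inf_le_left.trans k1)
  have k3 : n ∈ N(B ⊔ T ⊓ N(B) ⊓ Wm S B ⊓ S) :=
    normsY (zpowers_le.2 hn.1) (zpowers_le.2 (sc_nrm hsc k1 hn.2)) (mem_zpowers n)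
  have k4 : B < B ⊔ T ⊓ N(B) ⊓ Wm S B ⊓ S := left_lt_sup.2 fun e' => e (by
    have := (hT.pi.mono (sup_le hsc.1 hB)).nil.eq_of_subnorm_le le_sup_right (by
      rw [inf_comm, inf_sup_right (hB.trans (sc_le hsc)) (le_nrm B)]
      exact sup_le (fun s hs => e' ⟨⟨⟨hsc.1 hs.2, hs.1⟩, hs.1, fun x hx => by
        simpa [mul_assoc] using mul_mem hs.2 (conj_mem (sc_le hsc (hB hx)) (inv_mem hs.2))⟩, hs.2⟩) le_rfl)
    exact le_sup_left.trans this.ge)
  have := ht _ _ _ (ih _ n (card_lt k4) k2 ((cj_of_mem_nrm k3).le.trans k2) x (k4.le hx))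
    (h2 B hB hsyl w hw _ (conj_mem hn.1 hx))
  rwa [show w * (n * x * n⁻¹) * w⁻¹ = w * n * x * (w * n)⁻¹ by group] at this

/-- lifting modulo a subgroup whose `2`-elements lie in `𝒮` -/
theorem lift (h : SC 𝒮) (hW : ∀ v ∈ W, PiElt {2} v → v ∈ 𝒮) (hs : s ∈ 𝒮) (hn : s ∈ N(W)) (hw : w ∈ W)
    (h2 : PiElt {2} (s * w)) : s * w ∈ 𝒮 := by
  have k1 : s * w ∈ W ⊔ ⟪s⟫ := mul_mem (mem_sup_right (mem_zpowers s)) (mem_sup_left hw)
  obtain ⟨P, hP, k2⟩ := (G75.pGrp_zp h2).exists_syl (zpowers_le.2 k1)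
  obtain ⟨g, hg, k3⟩ := hP.syl_elt (mem_sup_right (mem_zpowers s)) (h.two s hs)
  obtain ⟨k, hk, v, hv, rfl⟩ := (mem_sup_norm (zpowers_le.2 hn)).1 hg
  rw [show k * v * s * (k * v)⁻¹ = k * s * k⁻¹ by
    rw [mul_assoc k v s, H3.comm_of_mem_zpowers hv (mem_zpowers s)]; group] at k3
  have k4 := mul_mem (inv_mem k3) (k2 (mem_zpowers _))
  have k5 : (k * s * k⁻¹)⁻¹ * (s * w) ∈ W := by
    have := mul_mem (mul_mem hk (conj_mem (inv_mem hn) (inv_mem hk))) hw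
    convert this using 1; group
  have := h.mul P hP.pi _ (h.conj s hs k) _ (hW _ k5 (hP.pi.piElt k4)) k3 k4
  rwa [mul_inv_cancel_left] at this

theorem nc_nml (S : Subgroup G) : normalClosure (S : Set G) ⊴ ⊤ := nml_top_iff.2 inferInstance

theorem nc_le' (h : ∀ s ∈ S, ∀ g, g * s * g⁻¹ ∈ X) : normalClosure (S : Set G) ≤ X :=
  (closure_le _).2 fun x hx => by
    obtain ⟨s, hs, e⟩ := Group.mem_conjugatesOfSet_iff.1 hx
    obtain ⟨g, rfl⟩ := isConj_iff.1 e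
    exact h s hs g

section
variable (hT : Syl 2 T ⊤) (hsc : IsStronglyClosed S T)
include hT hsc

theorem nc_le (h1 : S ≤ X) (h2 : normalClosure (S : Set G) ≤ N(X)) : normalClosure (S : Set G) ≤ X :=
  nc_le' fun s hs g => by
    obtain ⟨x, hx, n, hn, rfl⟩ := ((hT.inf_nml (nc_nml S)).frattini (nc_nml S)).mul g trivial
    have := conj_mem (h2 hx) (h1 (mem_inf.1 (conj_mem (sc_nrm hsc inf_le_left hn.2)
      (mem_inf.2 ⟨mem_inf.2 ⟨hsc.1 hs, le_normalClosure hs⟩, hs⟩))).2)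
    convert this using 1; group

theorem nc_der : normalClosure (S : Set G) ≤ ⁅normalClosure (S : Set G), normalClosure (S : Set G)⁆ ⊔ S :=
  nc_le hT hsc le_sup_right (nml_of_der_le le_sup_left (sup_le (der_le _) le_normalClosure)).nrm

/-- the transfer argument -/
theorem focal (hW : ∀ v ∈ W, PiElt {2} v → ∃ g, g * v * g⁻¹ ∈ S) (hn : normalClosure (S : Set G) ≤ N(W))
    (hC : C ≤ T) (h1 : T ⊓ normalClosure (S : Set G) ≤ S ⊔ C) (h2 : ⁅normalClosure (S : Set G), C⁆ ≤ W) :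
    T ⊓ normalClosure (S : Set G) ≤ S := by
  have h3 : S ≤ T ⊓ normalClosure (S : Set G) := le_inf hsc.1 le_normalClosure
  have h4 := focal_subgroup_le (K := S) (hT.inf_nml (nc_nml S)).isHall fun x hx g hg e => by
    obtain ⟨s, hs, c, hc, rfl⟩ := (mem_sup_norm (hC.trans (sc_le hsc))).1 (h1 hx)
    have k1 : g * s * g⁻¹ * ⁅g, c⁆ ∈ T := by
      have := mul_mem (mem_inf.1 e).1 (inv_mem (hC hc))
      convert this using 1; rw [commutatorElement_def]; group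
    have := mul_mem ((mem_of_sc hsc k1).1 (lift (sc_of hT hsc) hW ⟨g⁻¹, by simpa [mul_assoc] using hs⟩
      (hn (mul_mem (mul_mem hg (le_normalClosure hs)) (inv_mem hg))) (h2 (commutator_mem_commutator hg hc))
      (hT.pi.piElt k1))) (inv_mem hs)
    convert this using 1; rw [commutatorElement_def]; group
  refine (le_inf le_rfl (inf_le_right.trans (nc_der hT hsc))).trans ?_
  rw [inf_sup_right (le_normalClosure.trans (der_nml _).nrm) h3]
  exact sup_le h4 le_rfl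

variable (hr : prank 2 S ≤ 1)
include hr

theorem le_sup_cen (hX : normalClosure (S : Set G) = ⊤) : T ≤ S ⊔ C(S) := by
  have hE : S ⊔ C(S) ⊴ N(S) := (nml_nrm S).sup (cen_nml_nrm S)
  have hS := hT.pi.mono hsc.1
  have h1 := focal_subgroup_le (K := ⁅T, T⁆ ⊔ T ⊓ (S ⊔ C(S))) hT.isHall fun x hx g _ e =>
    alp_sc hT hsc (fun x y => y * x⁻¹ ∈ ⁅T, T⁆ ⊔ T ⊓ (S ⊔ C(S))) (fun x y h => by simpa using inv_mem h)
      (fun x y z h h' => by simpa [mul_assoc] using mul_mem h' h) (fun n hn x hx e => ?_)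
      (fun B hB _ w hw x hx => mem_sup_right ⟨hsc.1 (hw.2 x hx), mem_sup_left (hw.2 x hx)⟩) hx e
  · refine inf_eq_left.1 (hT.pi.nil.eq_of_le_sup_der inf_le_left ?_)
    refine (le_inf le_rfl (le_top.trans (hX ▸ nc_der hT hsc))).trans ?_
    rw [inf_sup_right (le_top.trans (der_nml _).nrm) hsc.1]
    exact sup_le h1 ((le_inf hsc.1 le_sup_left).trans le_sup_right)
  by_cases ho : H3.OA 2 S
  · obtain ⟨a, b, m, h⟩ := (H3.cyc_or_mcq_of_rank hS hr).resolve_left (ho.not_cyc hS)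
    obtain rfl : m = 2 := h.two_le.antisymm' (not_lt.1 fun e => h.not_oa (h.nrm_le e) ho)
    haveI : Fact (Nat.Prime 2) := ⟨Nat.prime_two⟩
    have k1 := (relIndex_cen_dvd_card_aut (le_refl N(S))).trans (H28.card_mulAut_dvd (P := S) (p := 2) (n := 3)
      (r := 2) h.card (by rw [← h.Phi_idx, relIndex, Phi, so_map]))
    have k2 : C(S).relIndex (S ⊔ C(S)) = 4 := by
      have := card_mul_relIndex (A := Z(S)) (B := S) inf_le_left
      rw [h.card_center, h.card, inf_comm, inf_relIndex_right] at this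
      rw [sup_comm, relIndex_sup_norm (le_nrm S |>.trans (cen_nml_nrm S).nrm)]
      omega
    rw [← FT.relIndex_mul le_sup_right hE.le, k2] at k1
    have k3 : (S ⊔ C(S)).relIndex T ∣ 2 * 3 :=
      (relIndex_dvd_of_norm (sc_le hsc) hE.nrm).trans (Nat.dvd_of_mul_dvd_mul_left (by decide : 0 < 4) k1)
    obtain ⟨j, hj⟩ := hT.pi.card
    have k4 : (S ⊔ C(S)).relIndex T ∣ 2 := Nat.Coprime.dvd_of_dvd_mul_right
      (Nat.Coprime.coprime_dvd_left (hj ▸ relIndex_dvd _ T) (Nat.Coprime.pow_left j (by decide))) k3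
    refine mem_sup_right (mem_inf.2 ⟨mul_mem e (inv_mem hx), ?_⟩)
    rcases (Nat.dvd_prime Nat.prime_two).1 k4 with k | k
    · exact relIndex_eq_one.1 k (mul_mem e (inv_mem hx))
    by_cases k5 : x ∈ S ⊔ C(S)
    · exact mul_mem (hE.conj_mem hn k5) (inv_mem k5)
    exact H3.mul_mem_of_relIndex_two k e (inv_mem hx) (fun k6 => k5 (by
      simpa [mul_assoc] using hE.conj_mem (inv_mem hn) k6)) (mt inv_mem_iff.1 k5)
  obtain ⟨c, hc, t, ht, rfl⟩ := (mem_sup_norm ((sc_le hsc).trans (cen_nml_nrm S).nrm)).1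
    (le_sup_odd (hT.subl (sc_le hsc) le_top) (fun g hg h2 => by_contra fun h3 => ho ⟨g, hg, h2, h3⟩) hn)
  have k1 : t * x * t⁻¹ ∈ T := conj_mem (le_nrm T ht) hx
  have k2 := mul_mem (mem_sup_right (S := ⁅T, T⁆) (T := T ⊓ (S ⊔ C(S))) (mem_inf.2 ⟨mul_mem e (inv_mem k1),
    mem_sup_right (by
      have := mul_mem hc ((cen_nml_nrm S).conj_mem (sc_le hsc k1) (inv_mem hc))
      convert this using 1; group)⟩)) (mem_sup_left (commutator_mem_commutator ht hx))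
  convert k2 using 1; rw [commutatorElement_def]; group

theorem cen_sc (h : H3.MCQ S a b m) : IsStronglyClosed (T ⊓ C(S)) T := by
  have hS := hT.pi.mono hsc.1
  have key : ∀ B ≤ T, Syl 2 (T ⊓ N(B)) N(B) → ∀ w ∈ Wm S B, ∀ x ∈ B, x ∈ C(S) → w * x * w⁻¹ ∈ C(S) := by
    intro B hB hsyl w hw x hx hc
    rcases H3.cyc_or_mcq_of_rank (hS.mono (inf_le_right (a := B))) ((prank_mono 2 inf_le_right).trans hr) with
      k | ⟨a', b', m', k⟩
    · have k1 := Wm_nml hsc hB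
      obtain ⟨c, k2, t, k3, rfl⟩ := (mem_sup_norm ((inf_le_left.trans inf_le_right).trans (cen_nml_nrm B).nrm)).1
        (le_sup_odd (D := C(B)) (hsyl.inf_nml k1) (fun g hg h2 => zpowers_le.1 (stable_factor_cent (N := B ⊓ S)
          (zpowers_le.2 hg.1) ((hT.pi.mono hB).cop h2.zpowers) ((commC _ _).le.trans (commutator_le.2
            fun v hv y hy => mem_inf.2 ⟨mul_mem (conj_mem (zpowers_le.2 hg.1 hv) hy) (inv_mem hy),
              (zpowers_le.2 hg hv).2 y hy⟩)) (zpowers_le.2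
            (H3.odd_cyc (hS.mono inf_le_right) k (sc_nrm hsc hB hg.1) h2)))) hw)
      have k4 := conj_mem k3.1.2 hx
      rw [show c * t * x * (c * t)⁻¹ = c * (t * x * t⁻¹) * c⁻¹ by group, ← mem_cen.1 k2 _ k4, mul_inv_cancel_right]
      exact (cen_nml_nrm S).conj_mem (sc_le hsc k3.1.1) hc
    have k1 : w * x * w⁻¹ * x⁻¹ ∈ Z(B ⊓ S) := mem_inf.2 ⟨mem_inf.2 ⟨mul_mem (conj_mem hw.1 hx) (inv_mem hx),
      hw.2 x hx⟩, mul_mem ((cen_nml_nrm _).conj_mem (sc_nrm hsc hB hw.1) (cen_anti inf_le_right hc))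
        (inv_mem (cen_anti inf_le_right hc))⟩
    have k2 : w * x * w⁻¹ * x⁻¹ ∈ C(S) := by
      by_cases e : w * x * w⁻¹ * x⁻¹ = 1
      · exact e ▸ one_mem _
      rw [h.eq_z_of_sq k1.1.2 (by rw [(k.mem_z_iff.1 (k.center ▸ k1)).resolve_left e, k.z_sq]) e]
      exact h.z_cen
    simpa using mul_mem k2 hc
  refine ⟨inf_le_left, fun x hx g hg => ⟨hg, (alp_sc hT hsc (fun x y => x ∈ C(S) ↔ y ∈ C(S)) (fun _ _ => Iff.symm)
    (fun _ _ _ => Iff.trans) (fun n hn x _ _ => ⟨(cen_nml_nrm S).conj_mem hn, fun e => by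
      simpa [mul_assoc] using (cen_nml_nrm S).conj_mem (inv_mem hn) e⟩) (fun B hB hs w hw x hx =>
      ⟨key B hB hs w hw x hx, fun e => by
        simpa [mul_assoc] using key B hB hs _ (inv_mem hw) _ (conj_mem hw.1 hx) e⟩) hx.1 hg).1 hx.2⟩⟩

end

/-- the product theorem in a quotient -/
theorem prod_quo (hGO : GOw.{u}) (hAC : ACS.{u}) {𝒞 : Set G} {G' : Type u} [Group G'] [Finite G'] {f : D →* G'}
    (hf : Function.Surjective f) (h : SC 𝒮) (h' : SC 𝒞)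
    (hc : ∀ R : Subgroup G, PGrp 2 R → ∀ x ∈ 𝒮, ∀ y ∈ 𝒞, x ∈ R → y ∈ R → x * y = y * x)
    (hk : ∀ v ∈ pker f, PiElt {2} v → v ∈ 𝒮) (hi : ∀ x ∈ 𝒮, x ∈ 𝒞 → x ∈ pker f) :
    ⁅cl 𝒮 D, cl 𝒞 D⁆ ≤ ppre f Od((⊤ : Subgroup G')) := by
  refine (pmap_le_iff (comm_le_of_le (G75.cl_le 𝒮 D) (G75.cl_le 𝒞 D))).1 ?_
  rw [pmap_comm f (G75.cl_le 𝒮 D) (G75.cl_le 𝒞 D), G75.pmap_cl, G75.pmap_cl]
  refine G75.good hGO hAC ⟨h.img hf, h'.img hf, fun R hR x hx y hy h1 h2 => ?_, fun w h1 h2 => ?_⟩ ⊤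
  · obtain ⟨P, h3, h4, -, h5⟩ := G75.exists_lift hf hR
    obtain ⟨x, a1, a2, rfl⟩ := h5 𝒮 h x hx h1
    obtain ⟨y, b1, b2, rfl⟩ := h5 𝒞 h' y hy h2
    rw [← pfun_mul f (h3 a2) (h3 b2), hc P h4 x a1 y b1 a2 b2, pfun_mul f (h3 b2) (h3 a2)]
  obtain ⟨P, h3, h4, -, h5⟩ := G75.exists_lift hf (G75.pGrp_zp ((h.img hf).two w h1))
  obtain ⟨x, a1, a2, rfl⟩ := h5 𝒮 h w h1 (mem_zpowers w)
  obtain ⟨y, b1, b2, e⟩ := h5 𝒞 h' _ h2 (mem_zpowers _)
  have h6 := mul_mem (inv_mem a2) b2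
  have := h.mul P h4 x a1 _ (hk _ ((pfun_eq_iff (h3 a2) (h3 b2)).1 e.symm) (h4.piElt h6)) a2 h6
  rw [mul_inv_cancel_left] at this
  rw [← e, (mem_pker.1 (hi y this b1)).2]

theorem q_top (hGO : GOw.{u}) (hAC : ACS.{u}) (hT : Syl 2 T ⊤) (hsc : IsStronglyClosed S T) (hr : prank 2 S ≤ 1)
    (hX : normalClosure (S : Set G) = ⊤) : T ≤ S := by
  have h1 := le_sup_cen hT hsc hr hX
  have hS := hT.pi.mono hsc.1
  have hO := pcore_nml {2}ᶜ (⊤ : Subgroup G)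
  rcases H3.cyc_or_mcq_of_rank hS hr with h | ⟨a, b, m, h⟩
  · rw [sup_eq_right.2 (ab_iff.1 h.ab)] at h1
    refine ((Hall.sup_right (pcore_pi _ ⊤) hS (le_top.trans hO.nrm)).max hT.pi hsc.1
      (le_top.trans (hX.ge.trans (nc_le' fun s hs g => ?_)))).le
    have k1 : T ≤ C(⟪s⟫) := h1.trans (cen_anti (zpowers_le.2 hs))
    have k2 := zstar_rel hT (hsc.1 hs) fun g _ hg => by
      have k3 := zpowers_le.2 (hsc.2 s hs g hg)
      have k4 := le_sup_odd (D := C(⟪s⟫)) (hT.subl (k1.trans (cen_le_nrm _)) le_top) (fun k hk =>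
        H3.odd_cyc (hS.mono (zpowers_le.2 hs)) (cyc_zpowers s) hk) (H3.mem_nrm_zpowers ((h.eq_of_card_eq k3
          (zpowers_le.2 hs) (by rw [← cj_zpowers, card_cj])).le (mem_zpowers _)))
      rw [sup_eq_left.2 k1, cen_zpowers] at k4
      rw [mem_cen1.1 k4, mul_inv_cancel_right]
    have := mul_mem_sup (k2 (commutator_mem_commutator (mem_top g) (mem_zpowers s))) hs
    rwa [commutatorElement_def, inv_mul_cancel_right] at this
  have h2 := cen_sc hT hsc hr h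
  have hz := h.le h.z_mem
  have h3 := zstar_rel hT (hsc.1 hz) fun g _ hg => h.eq_z_of_sq (hsc.2 _ hz g hg)
    (by rw [conj_pow, h.z_sq]; simp) (by simpa using h.z_ne)
  have h4 := h.center
  generalize a ^ 2 ^ (m - 1) = z at hz h3 h4
  have hV : Od((⊤ : Subgroup G)) ⊔ ⟪z⟫ ⊴ ⊤ := ⟨le_top, norms_of_comm_le
    ((comm_sup_le (le_top.trans hO.nrm) (comm_le_left hO.nrm) ((commC _ _).le.trans h3)).trans le_sup_left)⟩
  have h5 : ∀ v ∈ Od((⊤ : Subgroup G)) ⊔ ⟪z⟫, PiElt {2} v → ∃ g, g * v * g⁻¹ ∈ S := fun v hv e =>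
    let ⟨g, _, k⟩ := (Hall.sup_right (pcore_pi _ ⊤) (hS.mono (zpowers_le.2 hz)) (le_top.trans hO.nrm)).syl_elt hv e
    ⟨g, zpowers_le.2 hz k⟩
  have h6 : Z(S) ≤ Od((⊤ : Subgroup G)) ⊔ ⟪z⟫ := h4.le.trans le_sup_right
  generalize Od((⊤ : Subgroup G)) ⊔ ⟪z⟫ = V at hV h5 h6
  have h7 := prod_quo hGO hAC (qhom_surjective V) (sc_of hT hsc) (sc_of hT h2) (fun R hR x hx y hy k1 k2 => by
    obtain ⟨g, -, hg⟩ := hT.syl_Jsub hR le_top
    have k3 := hg (conj_mem_cj.2 k1)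
    have k4 := hg (conj_mem_cj.2 k2)
    have := mem_cen.1 ((mem_of_sc h2 k4).1 ((sc_of hT h2).conj y hy g)).2 _
      ((mem_of_sc hsc k3).1 ((sc_of hT hsc).conj x hx g))
    rw [conj_mul, conj_mul] at this
    simpa using this) (by rwa [qker]) fun x hx ⟨g, hg⟩ => by
      rw [qker]
      simpa [mul_assoc] using hV.conj_mem (mem_top g⁻¹)
        (h6 ⟨(mem_of_sc hsc hg.1).1 ((sc_of hT hsc).conj x hx g), hg.2⟩)
  have h8 := focal hT hsc (W := ppre (qhom V) Od((⊤ : Subgroup (Quo V)))) (C := T ⊓ C(S)) (fun v hv e => h5 v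
    (qker V ▸ mem_pker.2 ⟨(mem_ppre.1 hv).1, (e.pfun _).eq_one_of_mem (pcore_pi _ _) (mem_ppre.1 hv).2⟩) e)
    (norms_ppre (le_top.trans hV.nrm) (le_top.trans (pcore_nml _ _).nrm)) inf_le_left (by
      rw [← inf_sup_left' (le_nrm S |>.trans (cen_nml_nrm S).nrm) hsc.1]
      exact le_inf inf_le_left (inf_le_left.trans h1)) ((commSS ((cl_top_eq S).ge.trans (G75.cl_mono _ hV.nrm))
        fun x (hx : x ∈ T ⊓ C(S)) => G75.mem_cl ((mem_of_sc h2 hx.1).2 hx) (hV.nrm trivial)).trans h7)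
  rwa [hX, inf_top_eq] at h8

theorem nc_so (hT : Syl 2 T ⊤) (hsc : IsStronglyClosed S T) (hX : normalClosure (S : Set G) = X) :
    normalClosure (S.subgroupOf X : Set X) = ⊤ := by
  have h1 : S ≤ X := hX ▸ le_normalClosure
  have h2 := (nc_nml (S.subgroupOf X)).map (f := X.subtype)
  rw [← MonoidHom.range_eq_map, range_subtype] at h2
  have h3 := nc_le hT hsc ((map_so h1).ge.trans (map_mono le_normalClosure)) (hX.le.trans h2.nrm)
  exact eq_top_iff.2 fun x _ => by simpa using h3 (hX.ge x.2)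

/-- a strongly closed subgroup of rank one is a Sylow subgroup of its normal closure -/
theorem q_one (hGO : GOw.{u}) (hAC : ACS.{u}) (hT : Syl 2 T ⊤) (hsc : IsStronglyClosed S T) (hr : prank 2 S ≤ 1) :
    T ⊓ normalClosure (S : Set G) ≤ S := by
  have h1 : S ≤ normalClosure (S : Set G) := le_normalClosure
  have h2 := nc_so hT hsc rfl
  have h3 := hT.inf_nml (nc_nml S)
  generalize normalClosure (S : Set G) = X at h1 h2 h3
  exact (so_le_so' inf_le_right).1 (q_top hGO hAC ((hall_so_top inf_le_right).2 h3)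
    ⟨fun x hx => ⟨hsc.1 hx, x.2⟩, fun x hx g hg => hsc.2 x hx g hg.1⟩ (by rwa [prank_so h1]) h2)

end Cfsg.Agent.AC.Sc
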