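import Cfsg.Agent.AC.App2
import Cfsg.Agent.AC.Sc
import Cfsg.Agent.GO.ApK

/-! Aschbacher's criterion: strongly closed and tightly embedded subgroups.  OWNER: helper4. -/

set_option autoImplicit false
set_option linter.unusedSectionVars false
set_option linter.unusedVariables false
set_option linter.style.haveILetI false
set_option linter.unusedSimpArgs false

namespace Cfsg.Agent.AC.Ap

open Cfsg Cfsg.Agent.FT Subgroup Cfsg.Agent.AC.Rd Cfsg.Agent.GW Cfsg.Agent.AC.Sc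
open Cfsg.Agent.G75 (SC cl img Pair GOw ACS sc_of mem_of_sc cl_top_eq mem_cl cl_le)
open Cfsg.Agent.GO (TB AS Fr0)
open MulAction (stabilizer orbit toPermHom)
open scoped commutatorElement

universe u

variable {G Ω : Type u} [Group G] [Finite G] [MulAction G Ω] {Z 𝒮 : Set G} {E H K L M N Q S T X : Subgroup G}
  {g s t x y z : G}

/-- strongly closed sets in an almost simple group of Bender type -/
theorem tb_sc (h : TB E) (hX : AS ⊤ E) (hS : SC 𝒮) (hi : ∀ e ∈ E, Invo e → e ∈ 𝒮) (hi' : ∀ s ∈ 𝒮, Invo s → s ∈ E) :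
    (∀ x ∈ 𝒮, x ∈ E) ∧ ((∀ x ∈ 𝒮, x * x = 1) ∨ ∀ e ∈ E, PiElt {2} e → e ∈ 𝒮) := by
  obtain ⟨T, hT⟩ := exists_syl 2 (⊤ : Subgroup G)
  have hP := hT.inf_nml hX.nml
  obtain ⟨Z, K, t, k⟩ := GO.KB.exists_bi h hP
  have hF := k.frame
  have h0 : T ≤ N(T ⊓ E) := normsI (le_nrm T) (le_top.trans hX.nml.nrm)
  have h1 : ∀ p : G → Prop, (∀ x g, p (g * x * g⁻¹) → p x) → (∀ x ∈ 𝒮, x ∈ T → p x) → ∀ x ∈ 𝒮, p x :=
    fun p k1 k2 x hx => let ⟨g, _, e⟩ := hT.syl_elt trivial (hS.two x hx); k1 x g (k2 _ (hS.conj x hx g) e)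
  have h2 : ∀ x g, g * x * g⁻¹ ∈ E → x ∈ E := fun x g e => by
    simpa [mul_assoc] using hX.nml.conj_mem (mem_top g⁻¹) e
  have h3 : Z ≤ cl 𝒮 (T ⊓ E) := fun z hz => by
    by_cases e : z = 1
    · simp [e]
    exact mem_cl (hi z (k.ZT hz).2 (invo_of (k.sqZ hz) e)) (k.ZT hz)
  by_cases e : cl 𝒮 (T ⊓ E) = T ⊓ E
  · have h4 : ∀ x ∈ T ⊓ E, x ∈ 𝒮 := fun x hx => hS.of_cl hP.pi (e.ge hx)
    refine ⟨h1 _ h2 fun s hs hsT => ?_, .inr fun x hx k1 => ?_⟩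
    · obtain ⟨u, hu, k1⟩ := k.adj s (hX.nml.nrm trivial) (h0 hsT)
      have k2 := mul_mem (inv_mem (mem_inf.1 hu).1) hsT
      by_cases e' : u⁻¹ * s = 1
      · exact inv_mul_eq_one.1 e' ▸ hu.2
      obtain ⟨z, z1, z2, z3⟩ := hS.exists_invo (hS.mul T hT.pi _ (h4 _ (inv_mem hu)) s hs (inv_mem (mem_inf.1 hu).1) hsT)
        (mem_inf.2 ⟨k2, k1⟩) e'
      have z4 : z ∈ Z := (k.mem z).2 ⟨⟨z2.1, hi' z z1 z3⟩, z3.sq⟩
      obtain ⟨a, ha, b, hb, k3, k4, k5⟩ := k.exists_pair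
      obtain ⟨r, hr, rfl⟩ := k.trans a ha k4 b hb k5
      have k6 : z * r * z⁻¹ * r⁻¹ = 1 := eq_one_of_mem_inf (k.oddK.cop' (k.el.pGrp Nat.prime_two)).inf
        (mul_mem (conj_mem z2.2 hr) (inv_mem hr))
        (by simpa [mul_assoc] using mul_mem z4 (conj_mem (k.nrm (k.KT hr)) (inv_mem z4)))
      rw [k.free r hr z (k.ZT z4) z3.ne (commutatorElement_eq_one_iff_mul_comm.1 k6).symm] at k3
      simp at k3
    obtain ⟨g, -, k2⟩ := hP.syl_elt hx k1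
    simpa [mul_assoc] using hS.conj _ (h4 _ k2) g⁻¹
  have h4 := (G75.tb_irr h hX hF h3 (cl_le _ _) (hS.nrm_cl inf_le_right)).resolve_right e
  obtain ⟨y, y1, y2⟩ : ∃ y ∈ T ⊓ E, y ∉ Z := SetLike.not_le_iff_exists.1 fun e' =>
    e ((cl_le _ _).antisymm (e'.trans h3))
  have h5 : ∀ x ∈ 𝒮, x ∈ T → x ∈ Z := fun s hs hsT => by
    have k1 : ⁅T ⊓ E, ⟪s⟫⁆ ≤ Z := commutator_le.2 fun x hx v hv => h4 (mem_cl (hS.mul T hT.pi _
      (hS.conj v (hS.zp hs hv) x) _ (hS.inv (hS.zp hs hv)) (conj_mem (le_nrm T hx.1) (zpowers_le.2 hsT hv))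
      (inv_mem (zpowers_le.2 hsT hv))) (comm_le_left (zpowers_le.2 (h0 hsT)) (commutator_mem_commutator hx hv)))
    refine h4 (mem_cl hs (h.mem_T hX hF trivial (h0 hsT) k1 (mem_cen.2 fun z hz => ?_)))
    by_cases e' : z = 1
    · simp [e']
    obtain ⟨r, hr, rfl⟩ := k.trans _ (k.sq y1) (fun e => y2 ((k.mem y).2 ⟨y1, e⟩)) z hz e'
    rw [← conj_mul]
    have k2 := conj_mem (k.KT hr) y1
    generalize r * y * r⁻¹ = x at k2
    have k3 := k1 (commutator_mem_commutator (inv_mem k2) (mem_zpowers s))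
    have k4 := k.comm k3 k2
    have k5 := k.sqZ k3
    have k6 : s * x = x * ⁅x⁻¹, s⁆ * s := by rw [commutatorElement_def]; group
    generalize ⁅x⁻¹, s⁆ = w at k4 k5 k6
    rw [← mul_assoc, k6, mul_assoc _ s, k6, ← mul_assoc, ← mul_assoc, mul_assoc x w x, ← k4, ← mul_assoc,
      mul_assoc _ w w, k5, mul_one]
  exact ⟨h1 _ h2 fun s hs e => (k.ZT (h5 s hs e)).2, .inl (h1 (fun x => x * x = 1)
    (fun x g e => by rwa [conj_mul, conj_eq_one_iff] at e) fun s hs e => k.sqZ (h5 s hs e))⟩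

theorem hf_tb (hc : Core.{u}) (h : Hf Ω Z) (h2 : R2 Z (⊤ : Subgroup G)) :
    TB (closure Z) ∧ AS ⊤ (closure Z) ∧ ∀ e ∈ closure Z, Invo e → e ∈ Z := by
  have h1 : ∀ y ∈ closure Z, ¬ Yi Ω y := fun y hy e => Invo.ne e.1 (h.faith y (mem_Kr.1 (cc_Y hc h.toHt hy e)))
  have h3 := h.toHt.sub le_rfl
  obtain ⟨a, -⟩ := h.nt
  have h4 := (h3.se fun y e => h1 y y.2 ⟨by simpa using e.1, e.2⟩).se a
  have e : L0 Z (closure Z) = closure Z :=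
    L0.le.antisymm ((closure_le _).2 fun x hx => mem_L0 (subset_closure hx) hx)
  obtain ⟨x, -, y, -, k1, k2, k3⟩ := h2
  refine ⟨⟨Hf.simple ⟨h3, fun g hg => Subtype.ext (h.faith g hg)⟩
    (r2_sub ⟨x, subset_closure k1, y, subset_closure k2, k1, k2, k3⟩) (closure_sub e), not_comm_of_se h4, _, h4⟩,
    ⟨cl_nml h.toHZ, eq_bot_iff.2 fun g hg => h.faith g fun c => ?_⟩,
    fun y hy k => (h.mem_or_Y k).resolve_right (h1 y hy)⟩
  obtain ⟨s, hs⟩ := h.toHt.inv_at c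
  exact h.cen_le hs (mem_cen1.2 (hg.2 s (subset_closure hs.2.1)).symm)

theorem sc_image {G' : Type u} [Group G'] [Finite G'] (h : SC 𝒮) {f : G →* G'} (hf : Function.Surjective f) :
    SC (f '' 𝒮) := by
  have := h.img (f := f.comp (⊤ : Subgroup G).subtype) fun y => let ⟨x, e⟩ := hf y; ⟨⟨x, mem_top x⟩, e⟩
  rwa [img, show pfun (f.comp (⊤ : Subgroup G).subtype) = f from funext fun x => pfun_of_mem _ (mem_top x), coe_top,
    Set.inter_univ] at this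

/-- Goldschmidt's theorem modulo the core -/
theorem gow' (hGO : GOw.{u}) (h : SC 𝒮) (h1 : ∀ x ∈ 𝒮, x * x = 1) (h2 : ∀ V, V ⊴ ⊤ → Sol V → ∀ x ∈ 𝒮, x ∈ V → x = 1)
    (hy : y ∈ cl 𝒮 ⊤) (h3 : Invo y) : y ∈ 𝒮 := by
  have hO := pcore_nml {2}ᶜ (⊤ : Subgroup G)
  have ho := pcore_pi {2}ᶜ (⊤ : Subgroup G)
  have k0 := pcore_quo_pcore {2}ᶜ (⊤ : Subgroup G)
  generalize Od((⊤ : Subgroup G)) = O at hO ho k0
  have k1 : ⊤ /ₛ O = ⊤ := top_le_iff.1 ((quo_nrm O).ge.trans (pmap_mono _ le_top))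
  rw [k1] at k0
  obtain ⟨T, hT⟩ := exists_syl 2 (⊤ : Subgroup (Quo O))
  have k2 := h.img (qhom_surjective O)
  have k3 : y ∈ N(O) := hO.nrm trivial
  obtain ⟨g, hg⟩ := hGO T _ hT (fun x hx => by
      obtain ⟨x, k, rfl⟩ := k2.of_cl hT.pi hx
      rw [← pfun_mul _ k.2 k.2, h1 x k.1, pfun_one]) (k2.isSC hT) k0 (eq_bot_iff.2 fun x hx => by
      obtain ⟨x, k, rfl⟩ := k2.of_cl hT.pi hx.1
      rw [h2 _ (qpre_nml hO (k1.symm ▸ pcore_nml {2} ⊤ : O[{2}]((⊤ : Subgroup (Quo O))) ⊴ ⊤ /ₛ O)) ((pcore_pi _ _).sol.qpre (sol_of_odd ho)) x k.1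
        (mem_ppre.2 ⟨k.2, hx.2⟩), pfun_one]
      exact one_mem _) (pfun (qhom O) y) (by
      have := mem_pmap_of_mem (qhom O) k3 (G75.cl_mono 𝒮 hO.nrm hy)
      rw [G75.pmap_cl] at this
      refine G75.cl_le_iff.2 (fun w hw _ => ?_) this
      obtain ⟨g, -, e⟩ := hT.syl_elt trivial (k2.two w hw)
      simpa [mul_assoc] using (nc_nml _).conj_mem (mem_top g⁻¹) (le_normalClosure (mem_cl (k2.conj w hw g) e)))
    (invo_of (by rw [← pfun_mul _ k3 k3, h3.sq, pfun_one]) fun e =>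
      h3.ne (h3.pElt.eq_one_of_mem ho (qker O ▸ mem_pker.2 ⟨k3, e⟩)))
  obtain ⟨s, k4, k5⟩ := k2.conj _ (k2.of_cl hT.pi hg) g⁻¹
  have k6 : s⁻¹ * y ∈ O := qker O ▸ (pfun_eq_iff k4.2 k3).1 (k5.trans (by group))
  have := lift h (W := O) (fun v hv e => e.eq_one_of_mem ho hv ▸ h.one) k4.1 k4.2 k6
  rw [mul_inv_cancel_left] at this
  exact this h3.pElt

theorem lift2 (hT : Syl 2 T ⊤) (hsc : IsStronglyClosed S T) (hN : N ⊴ ⊤) (hx : x ∈ T) (hs : g * s * g⁻¹ ∈ S)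
    (h : s⁻¹ * x ∈ N) : x ∈ S ⊔ T ⊓ N := by
  have h1 : ⟪x⟫ ≤ N(N) := le_top.trans hN.nrm
  have h2 : T ⊓ N ⊔ ⟪x⟫ ≤ T := sup_le inf_le_left (zpowers_le.2 hx)
  obtain ⟨P, hP, h3⟩ := (hT.pi.mono h2).exists_syl (sup_le_sup_right inf_le_right ⟪x⟫)
  have h4 : P ≤ T := by
    rw [← inf_eq_left.2 hP.le, inf_sup_right h1 (le_sup_right.trans h3), (hT.inf_nml hN).max (hP.pi.inf_left N)
      (le_inf (le_sup_left.trans h3) inf_le_right) inf_le_right]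
    exact h2
  have h5 := sc_of hT hsc
  obtain ⟨k, hk, e⟩ := hP.syl_elt (x := s) (by
    simpa using mul_mem (mem_sup_right (mem_zpowers x)) (mem_sup_left (T := ⟪x⟫) (inv_mem h))) (h5.two s ⟨g, hs⟩)
  have h6 : (k * s * k⁻¹)⁻¹ * x ∈ N := by
    obtain ⟨n, hn, v, hv, rfl⟩ := (mem_sup_norm h1).1 hk
    have := mul_mem (mul_mem hn (hN.conj_mem (mem_top v) h)) (hN.conj_mem (mem_top x⁻¹) (inv_mem hn))
    rw [mul_assoc v, mul_assoc s⁻¹, H3.comm_of_mem_zpowers (mem_zpowers x) (inv_mem hv)] at this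
    convert this using 1; group
  have := mul_mem_sup ((mem_of_sc hsc (h4 e)).1 (h5.conj s ⟨g, hs⟩ k)) (mem_inf.2 ⟨mul_mem (inv_mem (h4 e)) hx, h6⟩)
  rwa [mul_inv_cancel_left] at this

theorem sc_two (hc : Core.{u}) (hGO : GOw.{u}) (hT : Syl 2 T ⊤) (hsc : IsStronglyClosed S T)
    (h : Ht Ω {z | Zs S z}) (h2 : R2 {z | Zs S z} (⊤ : Subgroup G)) : T ⊓ normalClosure (S : Set G) ≤ S ∨
      (∀ s ∈ S, s * s = 1) ∧ ∀ y ∈ normalClosure (S : Set G), Invo y → Zs S y := by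
  have h1 := sc_of hT hsc
  have h3 : ∀ x ∈ {x | ∃ g, g * x * g⁻¹ ∈ S}, x ∈ Kr G Ω → x = 1 := fun x hx e => by_contra fun e' => by
    obtain ⟨z, z1, z2, z3⟩ := h1.exists_invo hx e e'
    obtain ⟨a, b, hab⟩ := h.nt
    exact hab (h.fix z ⟨z3, z1⟩ a b (Kr_le a z2) (Kr_le b z2))
  have h4 : ∀ x, im Ω x = 1 → x ∈ Kr G Ω := fun x e => mem_Kr.2 fun c => by rw [← im_smul, e, one_smul]
  obtain ⟨k1, k2, k3⟩ := hf_tb hc h.im (h.r2_im h2)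
  obtain ⟨k4, k5⟩ := tb_sc k1 k2 (sc_image h1 im_surj) (fun e he k => let ⟨z, hz, k⟩ := k3 e he k; ⟨z, hz.2, k⟩) (by
    rintro _ ⟨s, hs, rfl⟩ k
    exact subset_closure ⟨s, ⟨invo_of (h3 _ (sq s ▸ h1.pow hs 2) (h4 _ (by rw [map_mul, k.sq])))
      fun e => k.ne (by rw [e, map_one]), hs⟩, rfl⟩)
  rcases k5 with k5 | k5
  · have k6 : ∀ x ∈ {x | ∃ g, g * x * g⁻¹ ∈ S}, x * x = 1 := fun x hx =>
      h3 _ (sq x ▸ h1.pow hx 2) (h4 _ (by rw [map_mul, k5 _ ⟨x, hx, rfl⟩]))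
    refine .inr ⟨fun s hs => k6 s ⟨1, by simpa⟩, fun y hy k => ⟨k, (gow' hGO h1 k6 (fun V hV hs x hx e =>
      by_contra fun e' => ?_) ((cl_top_eq S).ge hy) k :)⟩⟩
    have k7 := (hs.mono (h.mem_iff hV ⟨invo_of (k6 x hx) e', hx⟩ e)).map (f := im Ω)
    rw [MonoidHom.map_closure] at k7
    haveI := k1.simple
    exact k1.nab ⟨⟨IsSimpleGroup.comm_iff_isSolvable.2 k7⟩⟩
  refine .inl (focal hT hsc (W := Od(Kr G Ω)) (C := T ⊓ Kr G Ω)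
    (fun v hv e => ⟨1, by simp [e.eq_one_of_mem (pcore_pi _ _) hv]⟩)
    (le_top.trans (Kr_nml.nrm.trans (nrm_le_nrm_pcore _ _))) inf_le_left (fun x hx => ?_)
    ((commC _ _).le.trans ((commSS inf_le_right (cl_top_eq S).ge).trans (h1.zl' Kr_nml.nrm h3))))
  obtain ⟨s, ⟨g, hs⟩, e⟩ := k5 (im Ω x) (nc_le' (X := (Subgroup.closure _).comap (im Ω))
    (fun s hs g => k4 _ ⟨g * s * g⁻¹, ⟨g⁻¹, by simpa [mul_assoc] using hs⟩, rfl⟩) hx.2)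
    (PiNat.of_dvd (hT.pi.piElt hx.1) (orderOf_map_dvd _ _))
  exact lift2 hT hsc Kr_nml hx.1 hs (h4 _ (by rw [map_mul, map_inv, e, inv_mul_cancel]))

theorem zs_of_le (hT : Syl 2 T ⊤) (h : T ⊓ normalClosure (S : Set G) ≤ S) (hy : y ∈ normalClosure (S : Set G))
    (h1 : Invo y) : Zs S y :=
  let ⟨g, _, e⟩ := (hT.inf_nml (nc_nml S)).syl_elt hy h1.pElt; ⟨h1, g, h e⟩

theorem zs_le : closure {z | Zs S z} ≤ normalClosure (S : Set G) := (closure_le _).2 fun z ⟨_, g, hg⟩ => by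
  simpa [mul_assoc] using (nc_nml S).conj_mem (mem_top g⁻¹) (le_normalClosure hg)

theorem sc_cases (hc : Core.{u}) (hGO : GOw.{u}) (hT : Syl 2 T ⊤) (hsc : IsStronglyClosed S T)
    (h : Ht Ω {z | Zs S z}) : T ⊓ normalClosure (S : Set G) ≤ S ∨
      (∀ s ∈ S, s * s = 1) ∧ ∀ y ∈ normalClosure (S : Set G), Invo y → Zs S y := by
  by_cases e : prank 2 S ≤ 1
  · exact .inl (q_one hGO (s1174 hc) hT hsc e)
  obtain ⟨A, hA⟩ := exists_pnElem_of_lt_prank (not_le.1 e)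
  obtain ⟨a, b, c, ha, hb, hc', k1, k2, k3⟩ := (Set.two_lt_ncard_iff (Set.toFinite (A : Set G))).1
    (lt_of_lt_of_eq (by norm_num) hA.card.symm)
  have k : ∀ x ∈ A, x ≠ 1 → Zs S x := fun x hx e => Zs.mem (hA.le hx) (invo_of (sq x ▸ hA.abelem.pow hx) e)
  have k4 := mul_mem (inv_mem ha) hb
  have k5 := mul_mem (inv_mem ha) hc'
  exact sc_two hc hGO hT hsc h ⟨_, trivial, _, trivial, k _ k4 (by simpa [inv_mul_eq_one] using k1),
    k _ k5 (by simpa [inv_mul_eq_one] using k2), by simpa using k3, ab_iff_forall.1 hA.abelem.ab _ k4 _ k5⟩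

theorem sc_zs (hc : Core.{u}) (hGO : GOw.{u}) (hT : Syl 2 T ⊤) (hsc : IsStronglyClosed S T) (h : Ht Ω {z | Zs S z})
    (hy : y ∈ normalClosure (S : Set G)) (h1 : Invo y) : Zs S y :=
  (sc_cases hc hGO hT hsc h).elim (fun k => zs_of_le hT k hy h1) fun k => k.2 y hy h1

theorem s3289 (hc : Core.{u}) (hGO : GOw.{u}) (hT : Syl 2 T ⊤) (hS : S ≠ ⊥) (hsc : IsStronglyClosed S T) (hH : H ≠ ⊤)
    (hC : ∀ s ∈ S, orderOf s = 2 → C[s] ≤ H) (hN : N(Ω[2](S)) ≤ H) :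
    IsStronglyEmbedded (H.subgroupOf (normalClosure (S : Set G))) ∧
      (S = T ⊓ normalClosure (S : Set G) ∨ S = Ω[2](T ⊓ normalClosure (S : Set G))) ∧
      (prank 2 S ≤ 1 → S = T ⊓ normalClosure (S : Set G)) := by
  have h := ht_coset (sc_hz hT hsc hC hN) hH (Zs.ne (hT.pi.mono hsc.1) hS)
  have h1 : S ≤ T ⊓ normalClosure (S : Set G) := le_inf hsc.1 le_normalClosure
  refine ⟨se_sub h zs_le fun y hy e => h.not_Y (sc_zs hc hGO hT hsc h hy e.1) e, (sc_cases hc hGO hT hsc h).imp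
    h1.antisymm fun k => (le_Ohm h1 fun s hs => sq s ▸ k.1 s hs).antisymm (Ohm_le_iff.2 fun x hx e => ?_),
    fun e => h1.antisymm (q_one hGO (s1174 hc) hT hsc e)⟩
  by_cases e' : x = 1
  · simp [e']
  exact (k.2 x hx.2 (invo_of (sq x ▸ e) e')).mem_sc hsc hx.1

theorem s1911 (hc : Core.{u}) (hGO : GOw.{u}) (hQ : Even #Q) (hn : ¬ Q.Normal)
    (hodd : ∀ g : G, g ∉ N(Q) → Odd #(cj g Q ⊓ N(Q))) :
    IsStronglyEmbedded (N(Q).subgroupOf (normalClosure (Q : Set G))) := by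
  have h := ti_ht hQ hn hodd
  obtain ⟨T, hT⟩ := exists_syl 2 N(Q)
  have h1 := hT.inf_nml (nml_nrm Q)
  have h2 : ∀ x ∈ T ⊓ Q, x ≠ 1 → One N(Q) x := fun x hx e => by
    obtain ⟨z, k1, k2⟩ := G75.exists_invo_zp (hT.pi.piElt hx.1) e
    obtain ⟨n, rfl⟩ := (mem_powers_iff_mem_zpowers.2 k1 :)
    exact (ti_one hodd (Zs.mem (pow_mem hx.2 n) k2) (hT.le (pow_mem hx.1 n))).2.of_pow n
  obtain ⟨z, z1, z2⟩ := exists_invo ((h1.pi.dvd (h1.syl_ne_bot ⟨Nat.prime_two, hQ.two_dvd⟩)))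
  have h3 := hT.syl_top_of_nrm_le fun g hg => h2 z z1 z2.ne g (hT.le (conj_mem hg z1.1))
  have h4 : IsStronglyClosed (T ⊓ Q) T := ⟨inf_le_left, fun x hx g hg => ⟨hg, by
    by_cases e : x = 1
    · simp [e]
    exact conj_mem (h2 x hx e g (hT.le hg)) hx.2⟩⟩
  have h5 := fun y => sc_zs (y := y) hc hGO h3 h4 (ht_coset (sc_hz h3 h4
    (fun s hs e => (h2 s hs (Invo.ne e)).cen (hT.le hs.1)) fun g hg => h2 z z1 z2.ne g
      (hT.le (Ohm_le _ _ (conj_mem hg (mem_Ohm z1 (sq z ▸ z2.sq)))).1))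
    (fun e => hn (nml_top_iff.1 ⟨le_top, e.ge⟩)) ⟨z, Zs.mem z1 z2⟩)
  have h6 := nc_nml (T ⊓ Q)
  have h7 : T ⊓ Q ≤ normalClosure ((T ⊓ Q : Subgroup G) : Set G) := le_normalClosure
  generalize normalClosure ((T ⊓ Q : Subgroup G) : Set G) = X at h5 h6 h7
  have h8 := h.mem_iff h6 (Zs.mem z1.2 z2) (h7 z1)
  have h9 : normalClosure (Q : Set G) ≤ X ⊔ Q := nc_le' fun q hq g => by
    obtain ⟨u, k1⟩ := h.swap' ((1 : G) : G ⧸ N(Q)) (g : G)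
    have k2 : u⁻¹ * g ∈ N(Q) := by simpa using QuotientGroup.eq.1 k1.2.2
    have k3 := h8 (subset_closure k1.2.1)
    have := mul_mem (mul_mem (mem_sup_left k3) (mem_sup_right (conj_mem k2 hq))) (mem_sup_left (T := Q) (inv_mem k3))
    convert this using 1; group
  refine se_sub h zs_le fun y hy e => ?_
  obtain ⟨k1, g, hg⟩ := h5 y ((Invo.pElt e.1).mem_of_relIndex (h9 hy) (le_top.trans h6.nrm) (by
    rw [relIndex_sup_norm (le_top.trans h6.nrm)]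
    exact h1.idx.of_dvd (relIndex_dvd_of_le h7 Q))) e.1
  exact h.not_Y ⟨k1, g, hg.2⟩ e

end Cfsg.Agent.AC.Ap
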