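import Cfsg.Agent.AC.App3
import Cfsg.Agent.AC.Main
import Cfsg.Agent.GO.Struct

/-! The hypothesis `G75.GOw`.  OWNER: helper4. -/

set_option autoImplicit false
set_option linter.unusedVariables false

namespace Cfsg.Agent.AC.Ap

open Cfsg Cfsg.Agent.FT Subgroup Cfsg.Agent.GW Cfsg.Agent.AC.Sc

universe u

theorem gow : G75.GOw.{u} := by
  intro G _ _ S A hS h1 hsc hO _ v hv h2
  have k1 : A ≤ normalClosure (A : Set G) := le_normalClosure
  have k2 := nc_so hS hsc rfl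
  have k3 := nc_nml A
  generalize normalClosure (A : Set G) = X at hv k1 k2 k3
  have k4 := hS.inf_nml k3
  have h : GO.GS (A.subgroupOf X) ((S ⊓ X).subgroupOf X) :=
    ⟨by rw [← subgroupOf_self X, ← so_pcore _ le_rfl, eq_bot_of_le (pcore_mono_nml _ k3) hO, bot_subgroupOf],
      (hall_so_top inf_le_right).2 k4, (H3.abelem_of_sq fun x hx => sq x ▸ h1 x hx).ab.so k1,
      ⟨fun x hx => ⟨hsc.1 hx, x.2⟩, fun x hx g hg => hsc.2 x hx g hg.1⟩, fun N hN e => top_le_iff.1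
        (k2.ge.trans (nc_le' fun s hs g => hN.conj_mem trivial (e hs)))⟩
  obtain ⟨g, hg, e⟩ := k4.syl_elt hv h2.pElt
  exact ⟨g, (le_sup_right.trans h.om.ge : Ω[2](_) ≤ _) (mem_Ohm (x := ⟨_, e.2⟩) e
    (Subtype.ext (sq (g * v * g⁻¹) ▸ (h2.conj g).sq :)))⟩

end Cfsg.Agent.AC.Ap
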